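import Cfsg.Agent.J4Uniq.RB.Data
import Cfsg.Agent.J4Uniq.RA.Checks

/-!
# Checks for the second long relator
-/

set_option autoImplicit false
set_option maxRecDepth 100000

namespace Cfsg.Agent.J4Uniq.RB

open Cfsg Cfsg.Agent.Compute
open TenLocal (mapp matOf vpL)
open TenLocal.Oct (uOf mOf)
open RA (trB mapB matB)

/-- The carrier of a trio. -/
def hAt (i : ℕ) : ℕ := hX.getD i 0

/-- The word of the element of order four. -/
def wU : List (Fin 2 × Bool) :=
  [(1, true), (0, true), (1, true), (0, true), (1, true), (0, true), (1, true),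
   (1, true), (0, true), (1, true), (0, true), (1, true), (0, true), (1, true),
   (1, true), (0, true), (1, true), (0, true), (1, true), (0, true), (1, true)]

/-- The word of the conjugating element of the relator. -/
def wG : List (Fin 2 × Bool) :=
  [(0, true), (1, true), (0, true), (1, true), (0, true), (1, true), (1, true),
   (0, true), (1, true), (0, true), (1, true), (0, true), (1, true),
   (0, true), (1, true), (0, true), (1, true), (0, true), (1, true), (1, true)]

theorem hX_ok : (hX.all inM24B && Nat.beq hX.length 9) = true := by decide +kernel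

theorem fixD_ok : (fixD.all fun e => Nat.blt e.1 1024 && Nat.beq (mOf e.1) 0 &&
    bitB TenLocal.Oct.oMask1 e.1 && e.2.2.all fun f =>
      matB f.1 f.2.1 && mapB f.1 (RA.hAt 0) (RA.hAt 0) f.2.2 &&
        RA.zList.any fun a => Nat.beq a (Nat.xor (mapp f.2.1 e.1) e.1)) = true := by decide +kernel

theorem fixD_fix : (fixD.all fun e => allBelow 1024 fun x =>
    !(e.2.2.all fun f => Nat.beq (mapp f.2.1 x) x) || (Nat.beq x 0 || Nat.beq x e.2.1)) = true := by
  decide +kernel

/-- A duad with its translation for a trio. -/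
noncomputable def phiB (e : ℕ × ℕ × ℕ × ℕ × ℕ × ℕ × ℕ) : Bool :=
  match e with
  | (hi, v, q, n, c, g, d) =>
    Nat.blt hi 9 && Nat.blt v 2048 && inM24B q && inM24B c && Nat.blt n 1024 && Nat.blt d 1024 &&
      Nat.beq (mOf n) 0 && Nat.beq (uOf d) 0 && Nat.beq (mapp (matOf c) v) (uOf n) &&
      mapB c (hAt hi) (RA.hAt 0) g && inM24B (TenLocal.Oct.rC (mOf d)) &&
      Nat.beq (rep24.mul c q) (rep24.mul (TenLocal.Oct.rC (mOf d)) c) &&
      fixD.any fun f => Nat.beq f.1 n && Nat.beq f.2.1 d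

theorem phiC_ok : phiC.all phiB = true := by decide +kernel

/-- The vector of a pair of points. -/
noncomputable def vec (i j : ℕ) : ℕ := Nat.xor (vpL.getD i 0) (vpL.getD j 0)

/-- The translation of a vector for a trio is listed. -/
noncomputable def hasPhi (hi v q : ℕ) : Bool :=
  phiC.any fun e => Nat.beq e.1 hi && Nat.beq e.2.1 v && Nat.beq e.2.2.1 q

/-- A duad with the three translations. -/
noncomputable def opB (e : ℕ × ℕ × ℕ × ℕ × ℕ × List ℕ) : Bool :=
  match e with
  | (i, j, q0, q2, q1, ws) =>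
    Nat.blt i 24 && Nat.blt j 24 && !(Nat.beq i j) && Nat.blt (vec i j) 2048 && bitB LargeFischer.tmask (vec i j) &&
      inM24B q0 && inM24B q2 && inM24B q1 &&
      Nat.beq (rep24.mul q0 q0) rep24.one && Nat.beq (rep24.mul q2 q2) rep24.one &&
      Nat.beq (rep24.mul q1 q1) rep24.one &&
      inM24B (rep24.mul q0 q2) && Nat.beq (rep24.mul (rep24.mul q0 q2) (rep24.mul q0 q2)) q1 &&
      hasPhi 0 (vec i j) q0 && hasPhi 1 (vec i j) q2 && hasPhi 2 (vec i j) q1 &&
      Nat.beq (mapp (matOf rC2.1) (vec i j)) (vec i j) &&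
      mapB q0 (hAt 0) (hAt 0) (ws.getD 0 0) && mapB q0 (hAt 1) (hAt 3) (ws.getD 1 0) &&
      mapB q0 (hAt 2) (hAt 2) (ws.getD 2 0) && mapB q2 (hAt 1) (hAt 1) (ws.getD 3 0) &&
      mapB q2 (hAt 0) (hAt 4) (ws.getD 4 0) && mapB q2 (hAt 2) (hAt 2) (ws.getD 5 0) &&
      mapB q1 (hAt 0) (hAt 0) (ws.getD 6 0) && mapB q1 (hAt 1) (hAt 1) (ws.getD 7 0)

theorem opC_ok : opC.all opB = true := by decide +kernel

theorem opC_ne : (opC.any fun e => Nat.blt e.1 24) = true := by decide +kernel

/-- An element fixing the first three trios. -/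
noncomputable def stab3B (s : ℕ) (ws : List ℕ) : Bool :=
  inM24B s && allBelow 3 fun i => mapB s (hAt i) (hAt i) (ws.getD i 0)

theorem base_ok : (stab3B rC2.1 rC2.2 && inM24B (J4M24.evalCode wU) && inM24B (J4M24.evalCode wG) &&
    trB (J4M24.evalCode wU) && Nat.beq (J4M24.evalCode (wU ++ wU)) rC2.1 &&
    Nat.beq (rep24.mul rC2.1 rC2.1) rep24.one &&
    Nat.beq (hAt 0) rep24.one && Nat.beq (rep24.mul (hAt 1) (J4M24.evalCode wG)) rep24.one &&
    Nat.beq (rep24.mul (J4M24.evalCode wU) (hAt 3)) (hAt 1)) = true := by decide +kernel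

theorem e2C_ok : (e2C.all fun e => stab3B e.1 e.2 && ((matOf e.1).all fun c => Nat.blt c 2048) &&
    Nat.beq (rep24.mul e.1 rC2.1) (rep24.mul rC2.1 e.1)) = true := by decide +kernel

theorem fx_ok : allBelow 2048 (fun v => !(e2C.all fun e => Nat.beq (mapp (matOf e.1) v) v) ||
    fxC.any fun w => Nat.beq w v) = true := by decide +kernel

/-- The permutation swapping the chosen pairs. -/
noncomputable def swCode (m : ℕ) : ℕ :=
  pack 5 24 fun a => (opC.findIdx? fun e => (Nat.beq e.1 a || Nat.beq e.2.1 a)).elim a fun k =>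
    cond (bitB m k) (cond (Nat.beq (opC.getD k (0, 0, 0, 0, 0, [])).1 a)
      (opC.getD k (0, 0, 0, 0, 0, [])).2.1 (opC.getD k (0, 0, 0, 0, 0, [])).1) a

/-- The permutation respects the relations among the pairs through the last point. -/
noncomputable def linB (c : ℕ) : Bool :=
  allBelow 24 fun i => Nat.beq (mapp (matOf c) (vpL.getD i 0))
    (Nat.xor (vpL.getD (getField 5 c i) 0) (vpL.getD (getField 5 c 23) 0))

theorem cover : allBelow 24 (fun a =>
    (opC.findIdx? fun e => (Nat.beq e.1 a || Nat.beq e.2.1 a)).elim false fun k => Nat.blt k 12) = true := by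
  decide +kernel

theorem opC_len : Nat.beq opC.length 12 = true := by decide +kernel

theorem four_scan : allBelow 4096 (fun m => rep24.okb (swCode m) &&
    ((matOf (swCode m)).all fun c => Nat.blt c 2048) &&
    (!(linB (swCode m)) || fourC.any fun e => Nat.beq e.1 (swCode m))) = true := by decide +kernel

theorem fourC_ok : (fourC.all fun e => stab3B e.1 e.2.2 && inM24B e.2.1 &&
    Nat.beq (rep24.mul e.1 rC2.1) e.2.1 && Nat.beq (rep24.mul e.1 e.1) rep24.one &&
    (fxC.all fun v => Nat.blt v 2048 && Nat.beq (mapp (matOf e.1) v) v) &&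
    (Nat.beq e.1 rep24.one || caseC.any fun f => Nat.beq f.1 e.2.1)) = true := by decide +kernel

theorem zC_ok : (zC.all fun e => Nat.blt e.2.1 2 && Nat.blt e.2.2.1 2048 && bitB LargeFischer.tmask e.2.2.1 &&
    (e.2.2.2.all fun f => inM24B f.1 && mapB f.1 (hAt e.2.1) (hAt e.2.1) f.2.2 &&
      Nat.blt f.2.1 2048 && Nat.beq (mapp (matOf f.1) e.1) f.2.1) &&
    Nat.beq (e.2.2.2.foldr (fun f r => Nat.xor f.2.1 r) 0) e.2.2.1) = true := by decide +kernel

theorem fx_cover : (fxC.all fun v => Nat.beq v 0 || zC.any fun e => Nat.beq e.1 v) = true := by decide +kernel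

/-- A line of the configuration. -/
noncomputable def lineB (e : List ℕ × List ℕ × ℕ × List ℕ) : Bool :=
  match e with
  | (ids, perm, c, ws) =>
    inM24B c && allBelow 3 (fun a => Nat.blt (ids.getD a 0) 9 && Nat.blt (perm.getD a 0) 3 &&
      mapB c (RA.hAt (perm.getD a 0)) (hAt (ids.getD a 0)) (ws.getD a 0)) &&
    !(Nat.beq (perm.getD 0 0) (perm.getD 1 0)) && !(Nat.beq (perm.getD 0 0) (perm.getD 2 0)) &&
    !(Nat.beq (perm.getD 1 0) (perm.getD 2 0))

theorem lnC_ok : lnC.all lineB = true := by decide +kernel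

theorem lnC_ids : lnC.map (fun e => e.1) = [[1, 2, 3], [4, 0, 2], [5, 6, 0], [7, 8, 1]] := by decide +kernel

/-- A wrong value with the decomposition excluding it. -/
noncomputable def caseB (e : ℕ × List ℕ × ℕ × List (ℕ × ℕ × List ℕ)) : Bool :=
  match e with
  | (rp, ids, g, ks) =>
    inM24B rp && (Nat.beq (ids.getD 0 0) 0 && Nat.beq (ids.getD 1 0) 1 && Nat.beq (ids.getD 2 0) 5 &&
        Nat.beq (ids.getD 3 0) 6 || Nat.beq (ids.getD 0 0) 1 && Nat.beq (ids.getD 1 0) 0 &&
        Nat.beq (ids.getD 2 0) 7 && Nat.beq (ids.getD 3 0) 8) &&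
    mapB (ks.getD 0 (0, 0, [])).2.1 (hAt (ids.getD 3 0)) (hAt (ids.getD 3 0)) g &&
    allBelow 2 fun a => match ks.getD a (0, 0, []) with
      | (c, qc, ws) => inM24B c && inM24B qc && Nat.beq (rep24.mul c rp) (rep24.mul qc c) &&
        mapB c (hAt (ids.getD 0 0)) (hAt (ids.getD (Nat.add 2 a) 0)) (ws.getD 0 0) &&
        mapB c (hAt (ids.getD 1 0)) (hAt (ids.getD 1 0)) (ws.getD 1 0) &&
        mapB c (hAt 2) (hAt 2) (ws.getD 2 0) && mapB qc (hAt 2) (hAt 2) (ws.getD 3 0)

theorem caseC_ok : caseC.all caseB = true := by decide +kernel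

end Cfsg.Agent.J4Uniq.RB
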