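import Cfsg.Agent.J4Uniq.RelA
import Cfsg.Agent.J4Uniq.RB.Checks

/-!
# Translations attached to duads, and lines of the configuration of the second relator
-/

set_option autoImplicit false
set_option maxRecDepth 20000

open Cfsg Subgroup

namespace Cfsg.Agent.J4Uniq

open LargeExtra (oc)
open LargeFischer (W11 bv)
open J4Type (mSub)
open J4Type.V11
open Compute (rep24 inM24B mem_M24_of_check allBelow_eq_true)
open TenLocal
open TenLocal.Oct (uOf mOf rC)

variable {G : Type*} [Group G] [Finite G] {z : G} {P : Subgroup G} {V : Type*}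
  [AddCommGroup V] {π : ↥(oc z) →* Multiplicative V} {ρ : ↥(mSub z P) →* Equiv.Perm V}
  {q : V → ZMod 2} {B : List V} {S : Sys z P π ρ q B} (T : Sect S) {t : G}

/-- The conjugate of the third generator by a permutation. -/
noncomputable def tg (t : G) (h : ℕ) : G := kg T h * t * (kg T h)⁻¹

theorem tg_map (ht : IsCentre T t) {s h h' g : ℕ} (hs : inM24B s = true) (hh : inM24B h = true)
    (hh' : inM24B h' = true) (e : RA.mapB s h h' g = true) :
    kg T s * tg T t h * (kg T s)⁻¹ = tg T t h' := by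
  simp only [RA.mapB, Bool.and_eq_true] at e
  have hc := tr_comm T ht e.1
  have hg : inM24B g = true := by
    have := e.1; simp only [RA.trB, Bool.and_eq_true] at this; exact this.1
  have e' := kg_rel T hs hh hh' hg e.2
  rw [tg, tg]
  calc kg T s * (kg T h * t * (kg T h)⁻¹) * (kg T s)⁻¹
      = kg T s * kg T h * t * (kg T s * kg T h)⁻¹ := by group
    _ = kg T h' * (kg T g * t) * (kg T g)⁻¹ * (kg T h')⁻¹ := by rw [e']; group
    _ = _ := by rw [← hc.eq]; group

theorem tg_comm (ht : IsCentre T t) {s h g : ℕ} (hs : inM24B s = true) (hh : inM24B h = true)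
    (e : RA.mapB s h h g = true) : Commute (tg T t h) (kg T s) :=
  (mul_inv_eq_iff_eq_mul.1 (tg_map T ht hs hh hh e)).symm

theorem tg_sq (ht : IsCentre T t) (h : ℕ) : tg T t h * tg T t h = 1 := by
  rw [tg]
  calc kg T h * t * (kg T h)⁻¹ * (kg T h * t * (kg T h)⁻¹) = kg T h * (t * t) * (kg T h)⁻¹ := by group
    _ = 1 := by rw [ht.sq]; group

theorem tg_inv (ht : IsCentre T t) (h : ℕ) : (tg T t h)⁻¹ = tg T t h :=
  inv_eq_of_mul_eq_one_right (tg_sq T ht h)

theorem kg_mem_nrm (c : ℕ) : kg T c ∈ T.F.nrm := by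
  rw [kg]
  split_ifs
  · exact (T.kap _).2
  · exact one_mem _

theorem t_not_nrm (hT : Pure T) (ht : IsCentre T t) : t ∉ T.F.nrm := by
  intro htN
  obtain ⟨-, d, -, hd, -, hnot, -⟩ := exists_centre_frame T hT ht
  refine hnot (mul_mem (mul_mem ?_ htN) (inv_mem ?_)) <;>
  · obtain ⟨σ, rfl⟩ := hd
    exact (T.kap σ).2

theorem tg_not_nrm (hT : Pure T) (ht : IsCentre T t) (h : ℕ) : tg T t h ∉ T.F.nrm := by
  intro hN
  refine t_not_nrm T hT ht ?_
  have := mul_mem (mul_mem (inv_mem (kg_mem_nrm T h)) hN) (kg_mem_nrm T h)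
  rwa [show (kg T h)⁻¹ * tg T t h * kg T h = t by rw [tg]; group] at this

theorem kg_one : kg T rep24.one = 1 := by
  have h : inM24B rep24.one = true := by decide +kernel
  rw [kg_eq T h, show (⟨rep24.den rep24.one, (mem_M24_of_check h).2⟩ : ↥M24) = 1 from
    Subtype.ext rep24.den_one, map_one]
  rfl

theorem kg_invol {c : ℕ} (hc : inM24B c = true) (h : Nat.beq (rep24.mul c c) rep24.one = true) :
    kg T c * kg T c = 1 := by
  rw [kg_prod T hc hc (by decide +kernel) h, kg_one]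

theorem kg_wg {s v : ℕ} (hs : inM24B s = true) (hv : v < 2048) :
    kg T s * wg T.F (bv v) * (kg T s)⁻¹ = wg T.F (bv (mapp (matOf s) v)) := by
  obtain ⟨hok, hmem⟩ := mem_M24_of_check hs
  rw [kg_eq T hs, T.kap_wg, T.act_code hok hmem hv, mul_inv_cancel_right]

theorem hX_mem {i : ℕ} (hi : i < 9) : inM24B (RB.hAt i) = true := by
  have h := RB.hX_ok
  simp only [Bool.and_eq_true, List.all_eq_true] at h
  have hl : i < RB.hX.length := by rw [Nat.eq_of_beq_eq_true h.2]; exact hi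
  rw [RB.hAt, List.getD_eq_getElem _ _ hl]
  exact h.1 _ (List.getElem_mem _)

/-- The element commutes with no duad. -/
theorem not_comm_duad {g : G} (hg : g ∉ T.F.nrm) {v : ℕ} (hv : v < 2048)
    (hb : LargeFischer.tmask.testBit v = true) : ¬ Commute g (wg T.F (bv v)) := by
  intro hc
  have hd : LargeFischer.IsDuad (bv v) := (duad_iff hv).2 (J4Type.Orbits.bit_iff.2 hb)
  exact hg (cent_duad T.F T.good hd (mem_centralizer_singleton_iff.2 hc.eq))

/-- The translation of a duad. -/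
theorem phi_move (hT : Pure T) (ht : IsCentre T t) {hi v qc : ℕ} (h : RB.hasPhi hi v qc = true) :
    tg T t (RB.hAt hi) * wg T.F (bv v) * tg T t (RB.hAt hi) = wg T.F (bv v) * kg T qc := by
  obtain ⟨⟨a, b, c, n, k, g, d⟩, he, hb⟩ := List.any_eq_true.1 h
  simp only [Bool.and_eq_true] at hb
  obtain ⟨⟨ea, eb⟩, ec⟩ := hb
  obtain rfl := Nat.eq_of_beq_eq_true ea
  obtain rfl := Nat.eq_of_beq_eq_true eb
  obtain rfl := Nat.eq_of_beq_eq_true ec
  have hok := List.all_eq_true.1 RB.phiC_ok _ he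
  simp only [RB.phiB, Bool.and_eq_true, Nat.blt_eq] at hok
  obtain ⟨⟨⟨⟨⟨⟨⟨⟨⟨⟨⟨⟨ha, hv⟩, hc⟩, hk⟩, hn⟩, hd⟩, hm⟩, hu⟩, himg⟩, hmap⟩, hr⟩, hrel⟩, hfd⟩ := hok
  obtain ⟨f₀, hf₀, hz⟩ := tame_zero T hT ht
  obtain ⟨e, hef, hen⟩ := List.any_eq_true.1 hfd
  simp only [Bool.and_eq_true] at hen
  have hfok := List.all_eq_true.1 RB.fixD_ok e hef
  simp only [Bool.and_eq_true, List.all_eq_true, List.any_eq_true] at hfok
  obtain ⟨⟨⟨hlt, hm0⟩, hbit⟩, hents⟩ := hfok
  have hn' : e.1 = n := Nat.eq_of_beq_eq_true hen.1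
  have hd' : e.2.1 = d := Nat.eq_of_beq_eq_true hen.2
  have hne : f₀ n ≠ 0 := by
    intro h0
    have hcn := hf₀.conj n hn
    rw [h0, Nat.xor_zero] at hcn
    have h1 := (sort_facts.2.2.1 n hn (by rw [← Compute.bitB_eq, ← hn']; exact hbit)).2
    refine not_comm_duad T ?_ (coord_facts hn).2.1 h1 (v := uOf n)
      (g := tp T t 0) ?_
    · exact tg_not_nrm T hT ht (RA.hAt 0)
    · rw [← T.sEl_low (Nat.eq_of_beq_eq_true hm)]
      exact mul_inv_eq_iff_eq_mul.1 hcn
  have hfix : f₀ n = d := by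
    have hch := allBelow_eq_true.1 (List.all_eq_true.1 RB.fixD_fix e hef) (f₀ n) (hf₀.lt n hn)
    rw [Bool.or_eq_true, Bool.not_eq_true', Bool.or_eq_true] at hch
    rcases hch with h' | h' | h'
    · rw [← Bool.not_eq_true, List.all_eq_true] at h'
      refine absurd (fun f hf => ?_) h'
      obtain ⟨⟨hmat, hmp⟩, ζ, hζ, eζ⟩ := hents f hf
      have hs : inM24B f.1 = true := by
        simp only [RA.matB, Bool.and_eq_true] at hmat; exact hmat.1.1
      have hfx := tp_map T ht hs (i := 0) (j := 0) (by norm_num) (by norm_num) hmp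
      have hLn := kg_mat T hmat hn
      have hLf := kg_mat T hmat (xor_lt' hn (hf₀.lt n hn))
      have hζlt : ζ < 1024 := by
        simp only [RA.zList, List.mem_cons, List.not_mem_nil, or_false] at hζ; omega
      have hfζ : f₀ ζ = 0 := by
        have e1 := hf₀.conj ζ hζlt
        rw [(hz ζ hζ).eq, mul_inv_cancel_right] at e1
        have e2 := T.sEl_inj hζlt (xor_lt' hζlt (hf₀.lt ζ hζlt)) e1
        have := congrArg (fun a => ζ ^^^ a) e2
        simpa only [← Nat.xor_assoc, Nat.xor_self, Nat.zero_xor, eq_comm] using this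
      have eL : mapp f.2.1 n = ζ ^^^ n := by
        rw [Nat.eq_of_beq_eq_true eζ, hn']
        show _ = mapp f.2.1 n ^^^ n ^^^ n
        rw [Nat.xor_assoc, Nat.xor_self, Nat.xor_zero]
      have h3 : tp T t 0 * T.sEl (mapp f.2.1 n) * (tp T t 0)⁻¹ = T.sEl (mapp f.2.1 (n ^^^ f₀ n)) := by
        rw [← hLn.2, ← hLf.2, ← hf₀.conj n hn]
        calc tp T t 0 * (kg T f.1 * T.sEl n * (kg T f.1)⁻¹) * (tp T t 0)⁻¹
            = kg T f.1 * tp T t 0 * (kg T f.1)⁻¹ * (kg T f.1 * T.sEl n * (kg T f.1)⁻¹) *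
              (kg T f.1 * tp T t 0 * (kg T f.1)⁻¹)⁻¹ := by rw [hfx]
          _ = _ := by group
      rw [hf₀.conj _ hLn.1] at h3
      have e4 := T.sEl_inj (xor_lt' hLn.1 (hf₀.lt _ hLn.1)) hLf.1 h3
      rw [mapp_xor] at e4
      have e5 := congrArg (fun a => mapp f.2.1 n ^^^ a) e4
      simp only [← Nat.xor_assoc, Nat.xor_self, Nat.zero_xor] at e5
      rw [eL, hf₀.add hζlt hn, hfζ, Nat.zero_xor] at e5
      rw [← e5]; exact Nat.beq_refl _
    · exact absurd (Nat.eq_of_beq_eq_true h') hne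
    · rw [Nat.eq_of_beq_eq_true h', hd']
  have hK := tg_map T ht hk (hX_mem ha) (hAt_ok (i := 0) (by norm_num)) hmap
  have hw : kg T k * wg T.F (bv b) * (kg T k)⁻¹ = T.sEl n := by
    rw [kg_wg T hk hv, Nat.eq_of_beq_eq_true himg, T.sEl_low (Nat.eq_of_beq_eq_true hm)]
  have hsd : T.sEl d = kg T (rC (mOf d)) := by
    rw [Sect.sEl, Nat.eq_of_beq_eq_true hu, LargeFischer.bv_zero, Sect.el, wg_zero, one_mul, kg_eq T hr]
    exact congrArg (fun σ : ↥M24 => ((T.kap σ : ↥T.F.nrm) : G))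
      (Subtype.ext (rEl_val (coord_facts hd).2.2.1))
  have hq : kg T k * kg T c = T.sEl d * kg T k := by
    rw [hsd]; exact kg_rel T hk hc hr hk hrel
  have e1 : tp T t 0 * T.sEl n * (tp T t 0)⁻¹ = T.sEl n * T.sEl d := by
    rw [hf₀.conj n hn, hfix, T.sEl_mul hn hd]
  set k' := kg T k
  have hK' : k' * tg T t (RB.hAt a) * k'⁻¹ = tp T t 0 := hK
  have e2 : k' * (tg T t (RB.hAt a) * wg T.F (bv b) * tg T t (RB.hAt a)) * k'⁻¹ =
      T.sEl n * T.sEl d := by
    have hi := tg_inv T ht (RB.hAt a)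
    rw [← e1, ← hK', ← hw]
    conv_lhs => arg 1; arg 2; arg 2; rw [← hi]
    group
  have e3 : k' * (wg T.F (bv b) * kg T c) * k'⁻¹ = T.sEl n * T.sEl d := by
    rw [← hw, show k' * (wg T.F (bv b) * kg T c) * k'⁻¹ = k' * wg T.F (bv b) * k'⁻¹ * (k' * kg T c * k'⁻¹) by group,
      hq, mul_inv_cancel_right]
  exact mul_left_cancel (mul_right_cancel (e2.trans e3.symm))

/-- Three trios on a line multiply in pairs to the third. -/
theorem line_rel (hT : Pure T) (ht : IsCentre T t) {ids : List ℕ}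
    (h : ids ∈ [[1, 2, 3], [4, 0, 2], [5, 6, 0], [7, 8, 1]]) :
    tg T t (RB.hAt (ids.getD 0 0)) * tg T t (RB.hAt (ids.getD 1 0)) = tg T t (RB.hAt (ids.getD 2 0)) := by
  rw [← RB.lnC_ids, List.mem_map] at h
  obtain ⟨⟨ids', perm, c, ws⟩, he, rfl⟩ := h
  have hok := List.all_eq_true.1 RB.lnC_ok _ he
  simp only [RB.lineB, Bool.and_eq_true, Bool.not_eq_true', allBelow_eq_true, Nat.blt_eq] at hok
  obtain ⟨⟨⟨⟨hc, hall⟩, n01⟩, n02⟩, n12⟩ := hok
  have mv : ∀ a < 3, kg T c * tp T t (perm.getD a 0) * (kg T c)⁻¹ = tg T t (RB.hAt (ids'.getD a 0)) :=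
    fun a ha => by
      obtain ⟨⟨hi, hp⟩, hm⟩ := hall a ha
      exact tg_map T ht hc (hAt_ok (by omega)) (hX_mem hi) hm
  have ne : ∀ {a b : ℕ}, Nat.beq a b = false → a ≠ b := fun h e => by
    rw [e, Nat.beq_refl] at h; exact Bool.noConfusion h
  have h1 := line_one T hT ht
  obtain ⟨o1, o2, o3, o4, o5, o6⟩ := orders (tp_sq T ht 0) (tp_sq T ht 1) (tp_sq T ht 2)
    (Commute.one_right (tp T t 1)) (Commute.one_right (tp T t 2)) (Commute.one_right (tp T t 0))
    (one_mul 1) h1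
  have key : ∀ i j k : ℕ, i < 3 → j < 3 → k < 3 → i ≠ j → i ≠ k → j ≠ k →
      tp T t i * tp T t j = tp T t k := by
    intro i j k hi hj hk hij hik hjk
    interval_cases i <;> interval_cases j <;> interval_cases k <;>
      first
        | omega
        | exact o1.trans (one_mul _)
        | exact o2.trans (one_mul _)
        | exact o3.trans (one_mul _)
        | exact o4.trans (one_mul _)
        | exact o5.trans (one_mul _)
        | exact o6.trans (one_mul _)
  rw [← mv 0 (by norm_num), ← mv 1 (by norm_num), ← mv 2 (by norm_num),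
    ← key _ _ _ (hall 0 (by norm_num)).1.2 (hall 1 (by norm_num)).1.2 (hall 2 (by norm_num)).1.2
      (ne n01) (ne n02) (ne n12)]
  group

end Cfsg.Agent.J4Uniq
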